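import Mathlib.Topology.Covering.Basic
import Mathlib.Topology.Separation.Hausdorff
import Mathlib.SetTheory.Cardinal.Finite

/-!
# Closed maps with finite fibres of locally constant cardinality which are locally injective are
covering maps
-/

set_option autoImplicit false

open Topology Filter

namespace Groth.Agent.Pi1.H387.CovCard

theorem isEvenlyCovered {E X : Type*} [TopologicalSpace E] [TopologicalSpace X] [T2Space E]
    (f : E → X) (hf : Continuous f) (hcl : IsClosedMap f) (x : X)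
    (hfin : ∀ᶠ x' in 𝓝 x, (f ⁻¹' {x'}).Finite)
    (hinj : ∀ e ∈ f ⁻¹' {x}, ∃ U ∈ 𝓝 e, U.InjOn f)
    (hcard : ∀ᶠ x' in 𝓝 x, Nat.card (f ⁻¹' {x'}) = Nat.card (f ⁻¹' {x})) :
    IsEvenlyCovered f x (f ⁻¹' {x}) := by
  classical
  have hfx : (f ⁻¹' {x}).Finite := hfin.self_of_nhds
  have : Finite (f ⁻¹' {x}) := hfx
  have hdisc : DiscreteTopology (f ⁻¹' {x}) := inferInstance
  -- disjoint neighbourhoods
  obtain ⟨W, hW, hWd⟩ := hfx.t2_separation
  choose U₀ hU₀ hinjU₀ using hinj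
  let U : f ⁻¹' {x} → Set E := fun e => W e.1 ∩ interior (U₀ e.1 e.2)
  have hUo : ∀ e, IsOpen (U e) := fun e => (hW e.1).2.inter isOpen_interior
  have hUe : ∀ e : f ⁻¹' {x}, e.1 ∈ U e := fun e =>
    ⟨(hW e.1).1, mem_interior_iff_mem_nhds.2 (hU₀ e.1 e.2)⟩
  have hUi : ∀ e, (U e).InjOn f := fun e =>
    (hinjU₀ e.1 e.2).mono (Set.inter_subset_right.trans interior_subset)
  have hUd : Pairwise (Function.onFun Disjoint U) := by
    intro e e' hne
    have h1 : Disjoint (W e.1) (W e'.1) := hWd e.2 e'.2 (fun h => hne (Subtype.ext h))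
    exact h1.mono Set.inter_subset_left Set.inter_subset_left
  -- the open set over which everything happens
  have hUopen : IsOpen (⋃ e, U e) := isOpen_iUnion hUo
  have hnear : ∀ᶠ x' in 𝓝 x, f ⁻¹' {x'} ⊆ ⋃ e, U e := by
    have h1 : IsClosed (f '' (⋃ e, U e)ᶜ) := hcl _ hUopen.isClosed_compl
    have h2 : x ∈ (f '' (⋃ e, U e)ᶜ)ᶜ := by
      rintro ⟨e, he, hex⟩
      exact he (Set.mem_iUnion.2 ⟨⟨e, hex⟩, hUe ⟨e, hex⟩⟩)
    filter_upwards [h1.isOpen_compl.mem_nhds h2] with x' hx' e he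
    by_contra h
    exact hx' ⟨e, h, he⟩
  obtain ⟨V, hV, hVo, hxV⟩ := eventually_nhds_iff.1 (hnear.and (hfin.and hcard))
  have hexh : f ⁻¹' V ⊆ ⋃ e, U e := fun e he => (hV (f e) he).1 rfl
  have hsurj : ∀ e, (U e).SurjOn f V := by
    intro e x' hx'
    obtain ⟨h1, h2, h3⟩ := hV x' hx'
    have : Finite (f ⁻¹' {x'}) := h2
    -- the map from the fibre to the index set
    have hch : ∀ y : f ⁻¹' {x'}, ∃ i, y.1 ∈ U i := fun y => Set.mem_iUnion.1 (h1 y.2)
    choose i hi using hch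
    have hii : Function.Injective i := by
      intro y y' hyy
      have h4 : y'.1 ∈ U (i y) := by rw [hyy]; exact hi y'
      exact Subtype.ext (hUi (i y) (hi y) h4 ((Set.mem_singleton_iff.1 y.2).trans
        (Set.mem_singleton_iff.1 y'.2).symm))
    have hbij : Function.Bijective i := by
      refine (Nat.bijective_iff_injective_and_card i).2 ⟨hii, h3⟩
    obtain ⟨y, hy⟩ := hbij.2 e
    exact ⟨y.1, hy ▸ hi y, y.2⟩
  rcases isEmpty_or_nonempty (f ⁻¹' {x}) with hemp | hne
  · refine IsEvenlyCovered.of_preimage_eq_empty _ (hVo.mem_nhds hxV) ?_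
    refine Set.eq_empty_of_subset_empty (hexh.trans ?_)
    simp
  · have hXE : Nonempty (X → E) := ⟨fun _ => hne.some.1⟩
    have hopen : ∀ i {O : Set X}, O ⊆ V → (IsOpen O ↔ IsOpen (f ⁻¹' O ∩ U i)) := by
      intro i O hO
      refine ⟨fun h => (h.preimage hf).inter (hUo i), fun h => ?_⟩
      let Q : Set E := (f ⁻¹' O ∩ U i) ∪ ⋃ j : {j // j ≠ i}, U j.1
      have hQ : IsOpen Q := h.union (isOpen_iUnion fun j => hUo _)
      have h5 : O = V ∩ (f '' Qᶜ)ᶜ := by
        apply Set.Subset.antisymm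
        · intro x' hx'
          refine ⟨hO hx', ?_⟩
          rintro ⟨e, he, rfl⟩
          obtain ⟨j, hj⟩ := Set.mem_iUnion.1 (hexh (hO hx'))
          by_cases hji : j = i
          · exact he (Or.inl ⟨hx', hji ▸ hj⟩)
          · exact he (Or.inr (Set.mem_iUnion.2 ⟨⟨j, hji⟩, hj⟩))
        · rintro x' ⟨hx', hx''⟩
          obtain ⟨e, he, rfl⟩ := hsurj i hx'
          by_contra hno
          refine hx'' ⟨e, ?_, rfl⟩
          rintro (⟨h6, -⟩ | h6)
          · exact hno h6
          · obtain ⟨j, hj⟩ := Set.mem_iUnion.1 h6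
            exact Set.disjoint_left.1 (hUd j.2) hj he
      rw [h5]
      exact hVo.inter (hcl _ hQ.isClosed_compl).isOpen_compl
    let t := IsOpen.trivializationDiscrete (f := f) U V hVo hopen hUi hsurj hUd hexh
    exact IsEvenlyCovered.of_trivialization (t := t) hxV

end Groth.Agent.Pi1.H387.CovCard
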