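import Mathlib.Analysis.Complex.Basic
import Mathlib.Topology.Maps.Proper.Basic
import Mathlib.Topology.Maps.Proper.UniversallyClosed
import Mathlib.RingTheory.Etale.Field
import Mathlib.RingTheory.Etale.Basic
import Mathlib.RingTheory.Flat.LocallyFree
import Mathlib.RingTheory.Spectrum.Prime.FreeLocus
import Mathlib.Analysis.Complex.Polynomial.Basic
import Groth.Agent.An.H866.AlgDense
import Groth.Agent.An.H879.Covering

/-!
# Complex points of a `ℂ`-algebra, in any universe

`Pts B` is the set of `ℂ`-algebra homomorphisms `B → ℂ` with the topology of pointwise convergence.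
-/

set_option autoImplicit false

open Topology Filter TensorProduct

noncomputable section

namespace Groth.Agent.Pi1.H387.Pts

/-- The complex points of a `ℂ`-algebra. -/
def Pts (B : Type*) [CommRing B] [Algebra ℂ B] : Type _ := B →ₐ[ℂ] ℂ

variable {A B C : Type*} [CommRing A] [Algebra ℂ A] [CommRing B] [Algebra ℂ B]
  [CommRing C] [Algebra ℂ C]

instance : FunLike (Pts B) B ℂ := inferInstanceAs (FunLike (B →ₐ[ℂ] ℂ) B ℂ)

instance : AlgHomClass (Pts B) ℂ B ℂ := inferInstanceAs (AlgHomClass (B →ₐ[ℂ] ℂ) ℂ B ℂ)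

/-- The topology of pointwise convergence. -/
instance : TopologicalSpace (Pts B) :=
  TopologicalSpace.induced (fun (x : Pts B) (b : B) => x b) Pi.topologicalSpace

lemma isInducing : IsInducing (fun (x : Pts B) (b : B) => x b) := ⟨rfl⟩

lemma ext' {x y : Pts B} (h : ∀ b, x b = y b) : x = y := DFunLike.ext _ _ h

lemma isEmbedding : IsEmbedding (fun (x : Pts B) (b : B) => x b) :=
  ⟨isInducing, fun _ _ h => ext' fun b => congrFun h b⟩

lemma continuous_ev (b : B) : Continuous (fun x : Pts B => x b) :=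
  (continuous_apply b).comp isInducing.continuous

lemma continuous_iff {T : Type*} [TopologicalSpace T] {f : T → Pts B} :
    Continuous f ↔ ∀ b, Continuous fun t => f t b := by
  rw [isInducing.continuous_iff, continuous_pi_iff]
  rfl

lemma tendsto_iff {T : Type*} {l : Filter T} {f : T → Pts B} {x : Pts B} :
    Tendsto f l (𝓝 x) ↔ ∀ b, Tendsto (fun t => f t b) l (𝓝 (x b)) := by
  rw [isInducing.tendsto_nhds_iff, tendsto_pi_nhds]
  rfl

instance : T2Space (Pts B) := isEmbedding.t2Space

/-- The map on points induced by a homomorphism. -/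
def map (φ : A →ₐ[ℂ] B) (x : Pts B) : Pts A := AlgHom.comp (show B →ₐ[ℂ] ℂ from x) φ

@[simp] lemma map_apply (φ : A →ₐ[ℂ] B) (x : Pts B) (a : A) : map φ x a = x (φ a) := rfl

lemma continuous_map (φ : A →ₐ[ℂ] B) : Continuous (map φ) :=
  continuous_iff.2 fun a => continuous_ev (φ a)

lemma map_comp (φ : A →ₐ[ℂ] B) (ψ : B →ₐ[ℂ] C) (x : Pts C) :
    map (ψ.comp φ) x = map φ (map ψ x) := rfl

lemma map_id (x : Pts B) : map (AlgHom.id ℂ B) x = x := rfl

/-- A map of algebras which is an isomorphism induces a homeomorphism on points. -/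
def homeo (e : A ≃ₐ[ℂ] B) : Pts B ≃ₜ Pts A where
  toFun := map e.toAlgHom
  invFun := map e.symm.toAlgHom
  left_inv x := ext' fun b => by simp
  right_inv x := ext' fun b => by simp
  continuous_toFun := continuous_map _
  continuous_invFun := continuous_map _

/-- Integral homomorphisms induce proper maps. -/
theorem isProperMap_map (φ : A →ₐ[ℂ] B) (hφ : φ.toRingHom.IsIntegral) : IsProperMap (map φ) := by
  rw [isProperMap_iff_ultrafilter]
  refine ⟨continuous_map φ, fun 𝒰 x h => ?_⟩
  have hA : ∀ a : A, Tendsto (fun y : Pts B => y (φ a)) 𝒰 (𝓝 (x a)) := fun a =>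
    ((continuous_ev a).tendsto x).comp h
  -- boundedness of integral elements
  have hb : ∀ b : B, ∃ c : ℂ, Tendsto (fun y : Pts B => y b) 𝒰 (𝓝 c) := by
    intro b
    obtain ⟨p, hp, hpb⟩ := hφ b
    have hroot : ∀ y : Pts B, (p.map ((map φ y : A →ₐ[ℂ] ℂ) : A →+* ℂ)).eval (y b) = 0 := by
      intro y
      rw [Polynomial.eval_map]
      have h2 : (((map φ y : A →ₐ[ℂ] ℂ) : A →+* ℂ)) =
          ((y : B →ₐ[ℂ] ℂ) : B →+* ℂ).comp φ.toRingHom := rfl
      rw [h2]
      have h3 := Polynomial.hom_eval₂ p φ.toRingHom ((y : B →ₐ[ℂ] ℂ) : B →+* ℂ) b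
      rw [hpb, map_zero] at h3
      exact h3.symm
    have hbd : ∀ y : Pts B, ‖y b‖ ≤ 1 + ∑ i ∈ Finset.range p.natDegree, ‖y (φ (p.coeff i))‖ := by
      intro y
      have h4 := Groth.Agent.An.H866.AlgDense.norm_root_le _ (hp.map _) (y b) (hroot y)
      rw [hp.natDegree_map] at h4
      refine h4.trans (le_of_eq ?_)
      congr 1
      refine Finset.sum_congr rfl fun i _ => ?_
      rw [Polynomial.coeff_map]
      rfl
    have hlim : Tendsto (fun y : Pts B => 1 + ∑ i ∈ Finset.range p.natDegree, ‖y (φ (p.coeff i))‖)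
        𝒰 (𝓝 (1 + ∑ i ∈ Finset.range p.natDegree, ‖x (p.coeff i)‖)) :=
      tendsto_const_nhds.add (tendsto_finsetSum _ fun i _ => (hA _).norm)
    set M := 1 + ∑ i ∈ Finset.range p.natDegree, ‖x (p.coeff i)‖ with hM
    have hev : ∀ᶠ y in (𝒰 : Filter (Pts B)), y b ∈ Metric.closedBall (0 : ℂ) (M + 1) := by
      filter_upwards [hlim.eventually (gt_mem_nhds (lt_add_one M))] with y hy
      rw [Metric.mem_closedBall, dist_zero_right]
      exact (hbd y).trans hy.le
    have hcomp : IsCompact (Metric.closedBall (0 : ℂ) (M + 1)) := isCompact_closedBall _ _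
    obtain ⟨c, -, hc⟩ := hcomp.ultrafilter_le_nhds (𝒰.map fun y => y b)
      (by rw [Ultrafilter.coe_map]; exact tendsto_principal.2 hev)
    exact ⟨c, hc⟩
  choose c hc using hb
  have huniq : ∀ {f : Pts B → ℂ} {u v : ℂ}, Tendsto f 𝒰 (𝓝 u) → Tendsto f 𝒰 (𝓝 v) → u = v :=
    fun h1 h2 => tendsto_nhds_unique h1 h2
  let L : B →ₐ[ℂ] ℂ :=
    { toFun := c
      map_one' := huniq (hc 1) (by simp only [map_one]; exact tendsto_const_nhds)
      map_mul' := fun a b => huniq (hc (a * b)) (by simp only [map_mul]; exact (hc a).mul (hc b))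
      map_zero' := huniq (hc 0) (by simp only [map_zero]; exact tendsto_const_nhds)
      map_add' := fun a b => huniq (hc (a + b)) (by simp only [map_add]; exact (hc a).add (hc b))
      commutes' := fun r => huniq (hc _) (by
        simp only [AlgHomClass.commutes]; exact tendsto_const_nhds) }
  refine ⟨L, ext' fun a => ?_, ?_⟩
  · exact huniq (hc (φ a)) (hA a)
  · have : Tendsto (fun y : Pts B => y) 𝒰 (𝓝 (L : Pts B)) := tendsto_iff.2 hc
    exact this

/-- Finite homomorphisms have finite fibres on points. -/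
theorem finite_fibre (φ : A →ₐ[ℂ] B) (hφ : φ.toRingHom.Finite) (x : Pts A) :
    (map φ ⁻¹' {x}).Finite := by
  refine (Groth.Agent.An.H866.AlgDense.finite_fibre φ hφ x).subset ?_
  intro y hy r
  exact DFunLike.congr_fun (Set.mem_singleton_iff.1 hy) r

end Groth.Agent.Pi1.H387.Pts
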