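import Groth.Agent.Pi1.H387.Pts
import Groth.Agent.Pi1.H387.CovCard
import Mathlib.RingTheory.Unramified.Finite
import Mathlib.RingTheory.Flat.Rank
import Mathlib.RingTheory.Smooth.Flat
import Mathlib.RingTheory.Finiteness.ModuleFinitePresentation

/-!
# Finite étale algebras give covering maps on complex points (any universe)
-/

set_option autoImplicit false

open Topology Filter TensorProduct

noncomputable section

namespace Groth.Agent.Pi1.H387.Pts

/-- A finite étale algebra over `ℂ` has `dim B` points. -/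
theorem card_algHom (B : Type*) [CommRing B] [Algebra ℂ B] [Algebra.Etale ℂ B] :
    Nat.card (B →ₐ[ℂ] ℂ) = Module.finrank ℂ B := by
  classical
  have hfinB := Algebra.FormallyUnramified.finite_of_free ℂ B
  have : IsArtinianRing B := isArtinian_of_tower ℂ inferInstance
  have hF : Finite (PrimeSpectrum B) := inferInstance
  let e := Algebra.FormallyEtale.equivPiOfIsSepClosed ℂ B
  have hfin : Fintype (PrimeSpectrum B) := Fintype.ofFinite _
  have h1 : Module.finrank ℂ B = Fintype.card (PrimeSpectrum B) := by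
    rw [LinearEquiv.finrank_eq e.toLinearEquiv, Module.finrank_pi]
  rw [h1, ← Nat.card_eq_fintype_card]
  symm
  refine Nat.card_eq_of_bijective
    (fun p => (Pi.evalAlgHom ℂ (fun _ : PrimeSpectrum B => ℂ) p).comp e.toAlgHom) ⟨?_, ?_⟩
  · intro p q hpq
    by_contra hne
    have := DFunLike.congr_fun hpq (e.symm (Pi.single p 1))
    simp [hne] at this
  · intro φ
    let ψ : (PrimeSpectrum B → ℂ) →ₐ[ℂ] ℂ := φ.comp e.symm.toAlgHom
    have h2 : ∑ p, ψ (Pi.single p 1) = 1 := by
      rw [← map_sum]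
      have : ∑ p, (Pi.single p 1 : PrimeSpectrum B → ℂ) = 1 := by
        ext q
        simp [Finset.sum_apply, Pi.single_apply]
      rw [this, map_one]
    obtain ⟨p, hp⟩ : ∃ p, ψ (Pi.single p 1) ≠ 0 := by
      by_contra h
      push Not at h
      simp [h] at h2
    have h3 : ψ (Pi.single p 1) = 1 := by
      have h4 : ψ (Pi.single p 1) * ψ (Pi.single p 1) = ψ (Pi.single p 1) := by
        rw [← map_mul, ← Pi.single_mul, mul_one]
      exact mul_left_cancel₀ hp (h4.trans (mul_one _).symm)
    refine ⟨p, ?_⟩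
    ext b
    obtain ⟨f, rfl⟩ := e.symm.surjective b
    change (e (e.symm f)) p = ψ f
    rw [e.apply_symm_apply]
    have h5 : f * Pi.single p 1 = algebraMap ℂ (PrimeSpectrum B → ℂ) (f p) * Pi.single p 1 := by
      ext q
      by_cases hq : q = p
      · subst hq; simp
      · simp [hq]
    have h6 := congrArg ψ h5
    rw [map_mul, map_mul, h3, mul_one, mul_one, AlgHom.commutes] at h6
    exact h6.symm

section

variable {A B : Type*} [CommRing A] [Algebra ℂ A] [CommRing B] [Algebra ℂ B] [Algebra A B]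
  [IsScalarTower ℂ A B]

/-- The structure map on points. -/
def proj (A B : Type*) [CommRing A] [Algebra ℂ A] [CommRing B] [Algebra ℂ B] [Algebra A B]
    [IsScalarTower ℂ A B] : Pts B → Pts A := map (IsScalarTower.toAlgHom ℂ A B)

@[simp] lemma proj_apply (y : Pts B) (a : A) : proj A B y a = y (algebraMap A B a) := rfl

lemma continuous_proj : Continuous (proj A B) := continuous_map _

/-- Local injectivity for unramified algebras. -/
theorem exists_injOn [Algebra.FormallyUnramified A B] [Algebra.EssFiniteType A B] (y₀ : Pts B) :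
    ∃ U ∈ 𝓝 y₀, U.InjOn (proj A B) := by
  obtain ⟨t, ht, ht1⟩ := (Algebra.FormallyUnramified.iff_exists_tensorProduct (R := A)
    (S := B)).1 inferInstance
  obtain ⟨ι, s, b, c, hs⟩ : ∃ (ι : Type _) (s : Finset ι) (b c : ι → B),
      t = ∑ i ∈ s, b i ⊗ₜ[A] c i := by
    obtain ⟨s, hs⟩ := TensorProduct.exists_finset t
    exact ⟨_, s, Prod.fst, Prod.snd, hs⟩
  -- evaluation of the tensor
  have hev : ∀ y y' : Pts B, proj A B y = proj A B y' → (∑ i ∈ s, y (b i) * y' (c i)) ≠ 0 →
      y = y' := by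
    intro y y' hyy hne
    let _ : Algebra A ℂ := ((proj A B y : A →ₐ[ℂ] ℂ) : A →+* ℂ).toAlgebra
    let yA : B →ₐ[A] ℂ := { ((y : B →ₐ[ℂ] ℂ) : B →+* ℂ) with commutes' := fun a => rfl }
    let yA' : B →ₐ[A] ℂ := { ((y' : B →ₐ[ℂ] ℂ) : B →+* ℂ) with
      commutes' := fun a => (DFunLike.congr_fun hyy a).symm }
    let θ : B ⊗[A] B →ₐ[A] ℂ := Algebra.TensorProduct.lift yA yA' (fun _ _ => Commute.all _ _)
    have hθ : θ t = ∑ i ∈ s, y (b i) * y' (c i) := by
      rw [hs, map_sum]
      rfl
    refine ext' fun z => ?_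
    have h1 := congrArg θ (ht z)
    rw [map_mul, map_zero, map_sub, hθ] at h1
    have h2 : θ ((1 : B) ⊗ₜ[A] z) = y' z := by
      change yA 1 * yA' z = _
      rw [map_one, one_mul]; rfl
    have h3 : θ (z ⊗ₜ[A] (1 : B)) = y z := by
      change yA z * yA' 1 = _
      rw [map_one, mul_one]; rfl
    rw [h2, h3] at h1
    rcases mul_eq_zero.1 h1 with h4 | h4
    · exact (sub_eq_zero.1 h4).symm
    · exact absurd h4 hne
  have hcont : Continuous fun q : Pts B × Pts B => ∑ i ∈ s, q.1 (b i) * q.2 (c i) := by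
    refine continuous_finsetSum _ fun i _ => ?_
    exact ((continuous_ev _).comp continuous_fst).mul ((continuous_ev _).comp continuous_snd)
  have h0 : (∑ i ∈ s, y₀ (b i) * y₀ (c i)) = 1 := by
    have h1 := congrArg (fun z => y₀ z) ht1
    simp only [hs, map_sum, map_one] at h1
    simpa [← map_mul] using h1
  have hnhds : {q : Pts B × Pts B | (∑ i ∈ s, q.1 (b i) * q.2 (c i)) ≠ 0} ∈ 𝓝 (y₀, y₀) := by
    refine hcont.continuousAt.eventually_ne ?_
    change (∑ i ∈ s, y₀ (b i) * y₀ (c i)) ≠ 0
    rw [h0]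
    exact one_ne_zero
  rw [nhds_prod_eq, Filter.mem_prod_same_iff] at hnhds
  obtain ⟨U, hU, hUU⟩ := hnhds
  exact ⟨U, hU, fun y hy y' hy' h => hev y y' h (hUU (Set.mk_mem_prod hy hy'))⟩

/-- The prime ideal of a complex point. -/
def prime (x : Pts A) : PrimeSpectrum A :=
  PrimeSpectrum.comap ((x : A →ₐ[ℂ] ℂ) : A →+* ℂ) ⊥

lemma continuous_prime : Continuous (prime : Pts A → PrimeSpectrum A) := by
  refine PrimeSpectrum.isTopologicalBasis_basic_opens.continuous_iff.2 ?_
  rintro _ ⟨a, rfl⟩
  have : prime ⁻¹' (PrimeSpectrum.basicOpen a : Set (PrimeSpectrum A)) = {x : Pts A | x a ≠ 0} := by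
    ext x
    simp only [Set.mem_preimage, SetLike.mem_coe, PrimeSpectrum.mem_basicOpen, Set.mem_ofPred_eq]
    rfl
  rw [this]
  exact isOpen_ne.preimage (continuous_ev a)

/-- The number of points in the fibre of a finite étale algebra is the rank. -/
theorem card_fibre [Algebra.Etale A B] [Module.Finite A B] (x : Pts A) :
    Nat.card (proj A B ⁻¹' {x}) = Module.rankAtStalk (R := A) B (prime x) := by
  let _ : Algebra A ℂ := ((x : A →ₐ[ℂ] ℂ) : A →+* ℂ).toAlgebra
  have : IsScalarTower ℂ A ℂ := IsScalarTower.of_algebraMap_eq fun c => (AlgHomClass.commutes x c).symm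
  have h1 : Module.rankAtStalk (R := ℂ) (ℂ ⊗[A] B) ⊥ = Module.rankAtStalk (R := A) B (prime x) :=
    Module.rankAtStalk_baseChange (R := A) (S := ℂ) (M := B) ⊥
  rw [← h1, Module.rankAtStalk_eq_finrank_of_free]
  change _ = Module.finrank ℂ (ℂ ⊗[A] B)
  rw [← card_algHom]
  refine Nat.card_congr
    { toFun := fun y => Algebra.TensorProduct.lift (AlgHom.id ℂ ℂ)
        ({ ((y.1 : B →ₐ[ℂ] ℂ) : B →+* ℂ) with
            commutes' := fun a => DFunLike.congr_fun (Set.mem_singleton_iff.1 y.2) a } : B →ₐ[A] ℂ)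
        (fun _ _ => Commute.all _ _)
      invFun := fun ψ => ⟨(ψ.restrictScalars ℂ).comp
        ((Algebra.TensorProduct.includeRight : B →ₐ[A] ℂ ⊗[A] B).restrictScalars ℂ |>.comp
          (AlgHom.id ℂ B)) , ?_⟩
      left_inv := fun y => ?_
      right_inv := fun ψ => ?_ }
  · refine Set.mem_singleton_iff.2 (ext' fun a => ?_)
    change ψ ((1 : ℂ) ⊗ₜ[A] algebraMap A B a) = x a
    rw [← mul_one (algebraMap A B a), ← Algebra.smul_def, ← TensorProduct.smul_tmul,
      show (a • (1 : ℂ)) = x a from by rw [Algebra.smul_def, mul_one]; rfl]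
    have h2 : (x a) ⊗ₜ[A] (1 : B) = algebraMap ℂ (ℂ ⊗[A] B) (x a) := rfl
    rw [h2, AlgHom.commutes]
    rfl
  · refine Subtype.ext (ext' fun b => ?_)
    refine (Algebra.TensorProduct.lift_tmul _ _ (fun _ _ => Commute.all _ _) (1 : ℂ) b).trans ?_
    rw [map_one, one_mul]
    rfl
  · refine Algebra.TensorProduct.ext' fun c b => ?_
    rw [Algebra.TensorProduct.lift_tmul]
    change c * ψ ((1 : ℂ) ⊗ₜ[A] b) = ψ (c ⊗ₜ[A] b)
    have h2 : c ⊗ₜ[A] b = c • ((1 : ℂ) ⊗ₜ[A] b) := by
      rw [TensorProduct.smul_tmul', smul_eq_mul, mul_one]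
    rw [h2, map_smul, smul_eq_mul]

/-- Finite étale algebras induce covering maps. -/
theorem isCoveringMap_proj [Algebra.Etale A B] [Module.Finite A B] : IsCoveringMap (proj A B) := by
  intro x
  have hfin : (IsScalarTower.toAlgHom ℂ A B).toRingHom.Finite := by
    change (algebraMap A B).Finite
    exact RingHom.finite_algebraMap.2 inferInstance
  refine CovCard.isEvenlyCovered (proj A B) continuous_proj
    (isProperMap_map _ hfin.to_isIntegral).isClosedMap x
    (Filter.Eventually.of_forall fun x' => finite_fibre _ hfin x')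
    (fun e _ => exists_injOn e) ?_
  simp only [card_fibre]
  have hfp : Module.FinitePresentation A B :=
    (Module.FinitePresentation.iff_finitePresentation_of_finite A B).2 inferInstance
  have h1 := Module.isLocallyConstant_rankAtStalk (R := A) (M := B)
  have h2 : IsLocallyConstant fun x : Pts A => Module.rankAtStalk (R := A) B (prime x) :=
    h1.comp_continuous continuous_prime
  exact h2.eventually_eq x

end

end Groth.Agent.Pi1.H387.Pts
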