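import Groth.Agent.Pi1.H387.PtsEtale
import Groth.Agent.An.H869.Conn

/-!
# Localizations, density and connectedness for complex points (any universe)
-/

set_option autoImplicit false

open Topology Filter TensorProduct

noncomputable section

namespace Groth.Agent.Pi1.H387.Pts

section loc

variable {B Bf : Type*} [CommRing B] [Algebra ℂ B] [CommRing Bf] [Algebra ℂ Bf] [Algebra B Bf]
  [IsScalarTower ℂ B Bf] (f : B) [IsLocalization.Away f Bf]

include f in
lemma proj_apply_ne_zero (y : Pts Bf) : proj B Bf y f ≠ 0 := by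
  have h1 : IsUnit (algebraMap B Bf f) := IsLocalization.Away.algebraMap_isUnit f
  exact (h1.map ((y : Bf →ₐ[ℂ] ℂ) : Bf →+* ℂ)).ne_zero

/-- The point of a localization attached to a point where the element does not vanish. -/
def lift (x : Pts B) (hx : x f ≠ 0) : Pts Bf :=
  ({ IsLocalization.Away.lift (S := Bf) f (g := ((x : B →ₐ[ℂ] ℂ) : B →+* ℂ)) (IsUnit.mk0 _ hx) with
      commutes' := fun c => by
        rw [IsScalarTower.algebraMap_apply ℂ B Bf]
        have := IsLocalization.Away.lift_eq (S := Bf) f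
          (g := ((x : B →ₐ[ℂ] ℂ) : B →+* ℂ)) (IsUnit.mk0 _ hx) (algebraMap ℂ B c)
        exact this.trans (AlgHomClass.commutes x c) } : Bf →ₐ[ℂ] ℂ)

lemma lift_algebraMap (x : Pts B) (hx : x f ≠ 0) (b : B) :
    lift (Bf := Bf) f x hx (algebraMap B Bf b) = x b :=
  IsLocalization.Away.lift_eq (S := Bf) f (g := ((x : B →ₐ[ℂ] ℂ) : B →+* ℂ)) (IsUnit.mk0 _ hx) b

lemma proj_lift (x : Pts B) (hx : x f ≠ 0) : proj B Bf (lift f x hx) = x := by
  refine ext' fun b => ?_
  rw [proj_apply]
  exact lift_algebraMap f x hx b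

include f in
lemma proj_injective : Function.Injective (proj B Bf) := by
  intro y y' h
  have h1 : ((y : Bf →ₐ[ℂ] ℂ) : Bf →+* ℂ) = ((y' : Bf →ₐ[ℂ] ℂ) : Bf →+* ℂ) := by
    refine IsLocalization.ringHom_ext (Submonoid.powers f) ?_
    ext b
    exact DFunLike.congr_fun h b
  exact ext' fun b => DFunLike.congr_fun h1 b

/-- The value of a point at a fraction. -/
lemma apply_mk' (y : Pts Bf) (b : B) (n : ℕ) :
    y (IsLocalization.mk' Bf b (⟨f ^ n, n, rfl⟩ : Submonoid.powers f)) =
      proj B Bf y b / (proj B Bf y f) ^ n := by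
  have h1 := proj_apply_ne_zero f y
  rw [eq_div_iff (pow_ne_zero _ h1)]
  have h2 := IsLocalization.mk'_spec Bf b (⟨f ^ n, n, rfl⟩ : Submonoid.powers f)
  have h3 := congrArg (fun z => y z) h2
  simp only [map_mul] at h3
  rw [proj_apply, proj_apply, ← h3, map_pow, map_pow]

include f in
/-- The points of a localization form the open subset where the element does not vanish. -/
theorem isOpenEmbedding_proj : IsOpenEmbedding (proj B Bf) := by
  have hrange : Set.range (proj B Bf) = {x : Pts B | x f ≠ 0} := by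
    ext x
    constructor
    · rintro ⟨y, rfl⟩
      exact proj_apply_ne_zero f y
    · intro hx
      exact ⟨lift f x hx, proj_lift f x hx⟩
  refine ⟨⟨isInducing_iff_nhds.2 fun y => ?_, proj_injective f⟩, ?_⟩
  · refine le_antisymm continuous_proj.continuousAt.tendsto.le_comap ?_
    have key : Tendsto (fun y' : Pts Bf => y') (comap (proj B Bf) (𝓝 (proj B Bf y))) (𝓝 y) := by
      refine tendsto_iff.2 fun b => ?_
      obtain ⟨b, s, rfl⟩ := IsLocalization.exists_mk'_eq (Submonoid.powers f) b
      obtain ⟨n, hn⟩ := s.2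
      have hs : s = (⟨f ^ n, n, rfl⟩ : Submonoid.powers f) := Subtype.ext hn.symm
      subst hs
      rw [apply_mk' f y b n]
      refine Tendsto.congr (fun y' => (apply_mk' f y' b n).symm) ?_
      have hb : ∀ c : B, Tendsto (fun y' : Pts Bf => proj B Bf y' c)
          (comap (proj B Bf) (𝓝 (proj B Bf y))) (𝓝 (proj B Bf y c)) := fun c =>
        ((continuous_ev c).tendsto _).comp tendsto_comap
      exact (hb b).div ((hb f).pow n) (pow_ne_zero _ (proj_apply_ne_zero f y))
    exact key
  · rw [hrange]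
    exact isOpen_ne.preimage (continuous_ev f)

include f in
lemma range_proj : Set.range (proj B Bf) = {x : Pts B | x f ≠ 0} := by
  ext x
  constructor
  · rintro ⟨y, rfl⟩
    exact proj_apply_ne_zero f y
  · intro hx
    exact ⟨lift f x hx, proj_lift f x hx⟩

/-- The homeomorphism of the points of the localization with an open subset. -/
def homeoLoc : Pts Bf ≃ₜ {x : Pts B | x f ≠ 0} :=
  (isOpenEmbedding_proj f).toIsEmbedding.toHomeomorph.trans
    (Homeomorph.setCongr (range_proj f))

lemma homeoLoc_apply (y : Pts Bf) : (homeoLoc f y).1 = proj B Bf y := rfl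

end loc

section dom

variable (B : Type*) [CommRing B] [IsDomain B] [Algebra ℂ B] [Algebra.FiniteType ℂ B]

/-- Points where a nonzero element does not vanish are dense. -/
theorem dense_ne_zero (f : B) (hf : f ≠ 0) : Dense {x : Pts B | x f ≠ 0} := by
  intro x
  rw [mem_closure_iff_nhds]
  intro U hU
  rw [isInducing.nhds_eq_comap, Filter.mem_comap] at hU
  obtain ⟨u, hu, hsub⟩ := hU
  obtain ⟨O, hOu, hO, hxO⟩ := mem_nhds_iff.1 hu
  obtain ⟨S, ε, hε, hS⟩ := Groth.Agent.An.H869.Conn.wopen_preimage hO x hxO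
  obtain ⟨y, hy, hyS⟩ := Groth.Agent.An.H866.AlgDense.exists_close B f hf x S ε hε
  exact ⟨y, hsub (hOu (hS y hyS)), hy⟩

theorem preconnectedSpace : PreconnectedSpace (Pts B) := by
  refine ⟨?_⟩
  rw [← isInducing.isPreconnected_image (s := Set.univ), Set.image_univ]
  exact Groth.Agent.An.H869.Conn.isPreconnected_range B

theorem nonempty_pts : Nonempty (Pts B) := by
  obtain ⟨m, hm⟩ := Ideal.exists_maximal B
  let _ : Field (B ⧸ m) := Ideal.Quotient.field m
  have h1 : Algebra.FiniteType ℂ (B ⧸ m) :=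
    Algebra.FiniteType.of_surjective (Ideal.Quotient.mkₐ ℂ m) (Ideal.Quotient.mkₐ_surjective ℂ m)
  have h2 : Module.Finite ℂ (B ⧸ m) := finite_of_finite_type_of_isJacobsonRing ℂ (B ⧸ m)
  have h3 : Function.Bijective (algebraMap ℂ (B ⧸ m)) :=
    IsAlgClosed.algebraMap_bijective_of_isIntegral
  let e : ℂ ≃ₐ[ℂ] (B ⧸ m) := AlgEquiv.ofBijective (Algebra.ofId ℂ (B ⧸ m)) h3
  exact ⟨(e.symm.toAlgHom.comp (Ideal.Quotient.mkₐ ℂ m) : B →ₐ[ℂ] ℂ)⟩

theorem connectedSpace : ConnectedSpace (Pts B) :=
  { preconnectedSpace B with toNonempty := nonempty_pts B }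

end dom

section line

open Polynomial

/-- The complex points of the affine line. -/
def line : Pts ℂ[X] ≃ₜ ℂ where
  toFun x := x X
  invFun z := (Polynomial.aeval z : ℂ[X] →ₐ[ℂ] ℂ)
  left_inv x := by
    have : (Polynomial.aeval (x X) : ℂ[X] →ₐ[ℂ] ℂ) = (x : ℂ[X] →ₐ[ℂ] ℂ) := by
      apply Polynomial.algHom_ext
      rw [aeval_X]; rfl
    exact this
  right_inv z := Polynomial.aeval_X z
  continuous_toFun := continuous_ev X
  continuous_invFun := continuous_iff.2 fun b => by
    change Continuous fun z => (Polynomial.aeval z b : ℂ)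
    exact Polynomial.continuous_aeval b

end line

end Groth.Agent.Pi1.H387.Pts
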